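/-
Package C10 of the symmetric S3-amalgam lemma (helper71's plan, topic KS12).
-/
import Cfsg.Agent.Lib.Helper71.Sym.Words

set_option autoImplicit false

namespace Cfsg.Agent.Lib.Helper76.Sym

open Cfsg.Agent.Lib.Helper71.Sym

universe u

theorem pkgC10 : PkgC10.{u} := by
  intro G _ _ H T Q x hA hZF w hL k hk hCR hC7 hSB
  obtain ⟨g, hgW, hcrit⟩ := hk.1
  obtain ⟨u, hu, h, hh, rfl⟩ := wd_succ.1 hgW
  have hCRg := hCR _ hgW hcrit
  obtain ⟨t, htZ, htQ⟩ := SetLike.not_le_iff_exists.1 hCRg.gZ_not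
  have htT : t ∈ T := hCRg.gZ_le htZ
  obtain ⟨j, hj, _, _, hjT, _, _⟩ := hZF.two_cosets
  have hcrit2 := hSB u hu h hh hcrit j hj hjT
  have hg2W : x * j * u ∈ Wd H x (k + 1) := wd_left_mem hu hj
  have hC7g2 := hC7 _ hg2W hcrit2
  have hww : w * w = 1 := hZF.sq w hL.w_mem
  have hwT : w ∈ T := hA.hQT (hZF.le_Q hL.w_mem)
  have hjinv : j⁻¹ ∈ H := H.inv_mem hj
  have hjinvT : j⁻¹ ∉ T := fun hc => hjT (by simpa using T.inv_mem hc)
  -- central elements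
  have hCcent : ∀ c ∈ Cs H T, ∀ h' ∈ H, h' * c = c * h' := by
    intro c hc h' hh'
    exact Subgroup.mem_centralizer_iff.1 (Subgroup.mem_inf.1 hc).2 h' hh'
  -- `v = x w x⁻¹`
  have hx2w : (x * x) * w = w * (x * x) := hL.w_T _ hA.hx2
  have hv1 : x⁻¹ * w * x = x * w * x⁻¹ := by
    calc x⁻¹ * w * x = x * ((x * x)⁻¹ * (w * (x * x))) * x⁻¹ := by group
      _ = x * ((x * x)⁻¹ * ((x * x) * w)) * x⁻¹ := by rw [hx2w]
      _ = x * w * x⁻¹ := by group
  have hvT : x * w * x⁻¹ ∈ T := hA.hxT w hwT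
  have hvv : x * w * x⁻¹ * (x * w * x⁻¹) = 1 := by
    calc x * w * x⁻¹ * (x * w * x⁻¹) = x * (w * w) * x⁻¹ := by group
      _ = 1 := by rw [hww]; group
  have hvc : ∀ t' ∈ T, x * w * x⁻¹ * t' = t' * (x * w * x⁻¹) := by
    intro t' ht'
    have h1 := hL.w_T _ (hA.xinv_mem ht')
    calc x * w * x⁻¹ * t' = x * (w * (x⁻¹ * t' * x)) * x⁻¹ := by group
      _ = x * ((x⁻¹ * t' * x) * w) * x⁻¹ := by rw [h1]
      _ = t' * (x * w * x⁻¹) := by group
  have hvZ : x * w * x⁻¹ ∈ Zs H T := hZF.gen _ hvT hvv hvc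
  -- `r' = j⁻¹ v j`
  obtain ⟨v, hvdef⟩ : ∃ v, v = x * w * x⁻¹ := ⟨_, rfl⟩
  rw [← hvdef] at hvZ hvc hvv hvT hv1 ⊢
  have hr'Z : j⁻¹ * v * j ∈ Zs H T := by
    have := hZF.conj_H j⁻¹ hjinv v hvZ
    simpa using this
  have hr' : j⁻¹ * v * j ∈ cj u (Zs H T) := by
    rw [mem_cj]
    have h1 : u⁻¹ * (j⁻¹ * v * j) * u = (x * j * u)⁻¹ * w * (x * j * u) := by
      rw [← hv1]; group
    have h2 : (x * j * u)⁻¹ * w * (x * j * u) = w := by
      have h3 := hC7g2.cent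
      calc (x * j * u)⁻¹ * w * (x * j * u) = (x * j * u)⁻¹ * (w * (x * j * u)) := by group
        _ = (x * j * u)⁻¹ * ((x * j * u) * w) := by rw [h3]
        _ = w := by group
    rw [h1, h2]; exact hL.w_mem
  have htuQ : t ∈ cj u Q := by
    have h1 : cj (u * h * x) (Zs H T) ≤ cj u Q := by
      rw [cj_mul, ← hA.cj_mul_Q u hh]
      exact cj_mono (hk.adj' hA) _
    exact h1 htZ
  have hcomm : t * (j⁻¹ * v * j) = (j⁻¹ * v * j) * t := by
    have h1 := mem_cj.1 htuQ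
    have h2 := mem_cj.1 hr'
    have h3 := hZF.comm_Q _ h2 _ h1
    have e1 : (j⁻¹ * v * j) * t =
        u * (u⁻¹ * (j⁻¹ * v * j) * u * (u⁻¹ * t * u)) * u⁻¹ := by group
    have e2 : t * (j⁻¹ * v * j) =
        u * (u⁻¹ * t * u * (u⁻¹ * (j⁻¹ * v * j) * u)) * u⁻¹ := by group
    rw [e2, ← h3, ← e1]
  -- case analysis
  rcases hL.fix_T t htT htQ v hvZ (hvc t htT).symm with hvC | hvC
  · exact hvC
  · exfalso
    -- `c1 := v * w ∈ C`, `v = c1 * w`
    have hvw : v = v * w * w := by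
      rw [mul_assoc, hww, mul_one]
    have hc1j : j⁻¹ * (v * w) = (v * w) * j⁻¹ := hCcent _ hvC _ hjinv
    have hwjZ : j⁻¹ * w * j ∈ Zs H T := by
      have := hZF.conj_H j⁻¹ hjinv w hL.w_mem
      simpa using this
    have hr'eq : j⁻¹ * v * j = (v * w) * (j⁻¹ * w * j) := by
      calc j⁻¹ * v * j = j⁻¹ * (v * w * w) * j := by rw [← hvw]
        _ = (j⁻¹ * (v * w)) * w * j := by group
        _ = ((v * w) * j⁻¹) * w * j := by rw [hc1j]
        _ = (v * w) * (j⁻¹ * w * j) := by group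
    rcases hL.fix_T t htT htQ _ hr'Z hcomm with hrC | hrC
    · -- `j⁻¹ w j ∈ C`, so `w ∈ C`
      have h1 : j⁻¹ * w * j ∈ Cs H T := by
        have h2 : j⁻¹ * w * j = (v * w)⁻¹ * (j⁻¹ * v * j) := by
          rw [hr'eq]; group
        rw [h2]
        exact (Cs H T).mul_mem ((Cs H T).inv_mem hvC) hrC
      have h3 := hCcent _ h1 j hj
      have h5 : w * j = j⁻¹ * w * j * j := by
        have h6 : j * (j⁻¹ * w * j) = w * j := by group
        rw [← h6, h3]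
      have h4 : j * w = w * j := by
        calc j * w = j * (w * j) * j⁻¹ := by group
          _ = j * (j⁻¹ * w * j * j) * j⁻¹ := by rw [h5]
          _ = w * j := by group
      exact hjT (hL.w_cent j hj h4)
    · -- `(j⁻¹ w j) w ∈ C`
      have h1 : (j⁻¹ * w * j) * w ∈ Cs H T := by
        have h2 : (j⁻¹ * w * j) * w = (v * w)⁻¹ * (j⁻¹ * v * j * w) := by
          rw [hr'eq]; group
        rw [h2]
        exact (Cs H T).mul_mem ((Cs H T).inv_mem hvC) hrC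
      have h3 := hL.indep j⁻¹ hjinv hjinvT
      have h4 : w * (j⁻¹ * w * j⁻¹⁻¹) = (j⁻¹ * w * j) * w := by
        rw [inv_inv]
        exact hZF.comm_Q w hL.w_mem _ (hZF.le_Q hwjZ)
      rw [h4] at h3
      exact h3 h1

end Cfsg.Agent.Lib.Helper76.Sym
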