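/-
Package SB (back slide) of the symmetric S3-amalgam lemma (helper71's plan, topic KS12).
-/
import Cfsg.Agent.Lib.Helper71.Sym.Words

set_option autoImplicit false

namespace Cfsg.Agent.Lib.Helper76.Sym

open Cfsg.Agent.Lib.Helper71.Sym

universe u

theorem pkgSB : PkgSB.{u} := by
  intro G _ _ H T Q x hA hZF w hL k hk hCR hC7 u hu h hh hcrit j hj hjT hcontra
  have hgW : u * h * x ∈ Wd H x (k + 1) := wd_succ_mem hu hh
  have hCRg : CRF H T Q (u * h * x) := hCR _ hgW hcrit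
  have hC7g : C7F H T w (u * h * x) := hC7 _ hgW hcrit
  have hww : w * w = 1 := hZF.sq w hL.w_mem
  have hwinv : w⁻¹ = w := inv_eq_of_mul_eq_one_left hww
  -- the transvection `t`
  obtain ⟨t, htZ, htQ⟩ := SetLike.not_le_iff_exists.1 hCRg.gZ_not
  have htT : t ∈ T := hCRg.gZ_le htZ
  have htH : t ∈ H := hA.hTH htT
  -- `Z_l`
  have hZl_le : cj (j⁻¹ * x) (Zs H T) ≤ cj u Q := by
    have h1 : Zs H T ≤ cj (x * j) (cj u Q) := by rw [← cj_mul]; exact hcontra
    have h2 := (le_cj_iff (x * j)).1 h1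
    have h3 : cj (x * j)⁻¹ (Zs H T) = cj (j⁻¹ * x) (Zs H T) := by
      rw [mul_inv_rev, cj_mul, cj_mul, hZF.cjxinvZ hA.x2H]
    rw [h3] at h2; exact h2
  have huQ_le : cj u Q ≤ cj (u * h * x) T := by
    have h1 : cj (u * h * x) T = cj (u * h) T := by rw [cj_mul, hA.cjxT]
    rw [h1, ← hA.cj_mul_Q u hh]
    exact cj_mono hA.hQT _
  -- commutators
  have hcomm : ∀ y ∈ cj (j⁻¹ * x) (Zs H T), t * y * t⁻¹ = y ∨ t * y * t⁻¹ = w * y := by
    intro y hy
    have hyT : (u * h * x)⁻¹ * y * (u * h * x) ∈ T := mem_cj.1 (huQ_le (hZl_le hy))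
    have htZ' : (u * h * x)⁻¹ * t * (u * h * x) ∈ Zs H T := mem_cj.1 htZ
    have hc := hL.comm_T _ hyT _ htZ'
    have e1 : (u * h * x)⁻¹ * y * (u * h * x) * ((u * h * x)⁻¹ * t * (u * h * x)) *
        ((u * h * x)⁻¹ * y * (u * h * x))⁻¹ * ((u * h * x)⁻¹ * t * (u * h * x))⁻¹ =
        (u * h * x)⁻¹ * (y * t * y⁻¹ * t⁻¹) * (u * h * x) := by group
    rw [e1] at hc
    have key : t * y * t⁻¹ = (y * t * y⁻¹ * t⁻¹)⁻¹ * y := by group
    rcases hc with hc | hc
    · left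
      have h5 : y * t * y⁻¹ * t⁻¹ = 1 := by
        have h6 : y * t * y⁻¹ * t⁻¹ = (u * h * x) *
            ((u * h * x)⁻¹ * (y * t * y⁻¹ * t⁻¹) * (u * h * x)) * (u * h * x)⁻¹ := by group
        rw [h6, hc]; group
      rw [key, h5]; simp
    · right
      have h5 : y * t * y⁻¹ * t⁻¹ = w := by
        have h6 : y * t * y⁻¹ * t⁻¹ = (u * h * x) *
            ((u * h * x)⁻¹ * (y * t * y⁻¹ * t⁻¹) * (u * h * x)) * (u * h * x)⁻¹ := by group
        rw [h6, hc, hC7g.cent]; group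
      rw [key, h5, hwinv]
  -- `U`
  set U : Subgroup G := Zs H T ⊔ cj (j⁻¹ * x) (Zs H T) with hU
  have hZU : Zs H T ≤ U := le_sup_left
  have hZlU : cj (j⁻¹ * x) (Zs H T) ≤ U := le_sup_right
  have norm_of : ∀ s : G, (∀ a ∈ Zs H T, s * a * s⁻¹ ∈ U) →
      (∀ y ∈ cj (j⁻¹ * x) (Zs H T), s * y * s⁻¹ ∈ U) →
      s ∈ Subgroup.normalizer (U : Set G) := by
    intro s h1 h2
    apply Subgroup.mem_normalizer_fintype
    intro n hn
    have h3 : U ≤ U.comap (MulAut.conj s).toMonoidHom := by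
      apply sup_le
      · intro a ha
        exact Subgroup.mem_comap.2 (by simpa [MulAut.conj_apply] using h1 a ha)
      · intro y hy
        exact Subgroup.mem_comap.2 (by simpa [MulAut.conj_apply] using h2 y hy)
    have h4 := Subgroup.mem_comap.1 (h3 hn)
    simpa [MulAut.conj_apply] using h4
  have htN : t ∈ Subgroup.normalizer (U : Set G) := by
    apply norm_of
    · intro a ha
      exact hZU (hZF.conj_H t htH a ha)
    · intro y hy
      rcases hcomm y hy with h1 | h1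
      · rw [h1]; exact hZlU hy
      · rw [h1]; exact U.mul_mem (hZU hL.w_mem) (hZlU hy)
  have hTN : cj j⁻¹ T ≤ Subgroup.normalizer (U : Set G) := by
    intro s hs
    have hs' : j * s * j⁻¹ ∈ T := by
      have := mem_cj.1 hs
      simpa using this
    have hsH : s ∈ H := by
      have h1 : s = j⁻¹ * (j * s * j⁻¹) * j := by group
      rw [h1]
      exact H.mul_mem (H.mul_mem (H.inv_mem hj) (hA.hTH hs')) hj
    apply norm_of
    · intro a ha
      exact hZU (hZF.conj_H s hsH a ha)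
    · intro y hy
      apply hZlU
      rw [mem_cj]
      have hy' := mem_cj.1 hy
      have ht'' : x⁻¹ * (j * s * j⁻¹) * x ∈ H := hA.hTH (hA.xinv_mem hs')
      have h2 := hZF.conj_H _ ht'' _ hy'
      have e : (j⁻¹ * x)⁻¹ * (s * y * s⁻¹) * (j⁻¹ * x) =
          x⁻¹ * (j * s * j⁻¹) * x * ((j⁻¹ * x)⁻¹ * y * (j⁻¹ * x)) *
            (x⁻¹ * (j * s * j⁻¹) * x)⁻¹ := by group
      rw [e]; exact h2
  -- `H` normalizes `U`
  have hHN : ∀ h' ∈ H, h' ∈ Subgroup.normalizer (U : Set G) := by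
    have hle : T ≤ cj j (Subgroup.normalizer (U : Set G)) ⊓ H := by
      intro t' ht'
      refine Subgroup.mem_inf.2 ⟨?_, hA.hTH ht'⟩
      rw [mem_cj]
      apply hTN
      rw [mem_cj]
      simpa [mul_assoc] using ht'
    have hmem : j * t * j⁻¹ ∈ cj j (Subgroup.normalizer (U : Set G)) ⊓ H :=
      Subgroup.mem_inf.2 ⟨conj_mem_cj htN, H.mul_mem (H.mul_mem hj htH) (H.inv_mem hj)⟩
    rcases hZF.maxT _ hle inf_le_right with h1 | h1
    · exfalso
      rw [h1] at hmem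
      exact htQ (hZF.inter j hj hjT t htT hmem)
    · intro h' hh'
      have h2 : j * h' * j⁻¹ ∈ cj j (Subgroup.normalizer (U : Set G)) ⊓ H := by
        rw [h1]; exact H.mul_mem (H.mul_mem hj hh') (H.inv_mem hj)
      have h3 := mem_cj.1 (Subgroup.mem_inf.1 h2).1
      have e : j⁻¹ * (j * h' * j⁻¹) * j = h' := by group
      rw [e] at h3; exact h3
  have hHinv : ∀ h' ∈ H, ∀ n ∈ U, h' * n * h'⁻¹ ∈ U := by
    intro h' hh' n hn
    exact (Subgroup.mem_normalizer_iff.1 (hHN h' hh') n).1 hn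
  -- `U = Z ⊔ cj x Z`
  have hjU : cj j U = U := by
    apply le_antisymm
    · intro a ha
      have h1 := mem_cj.1 ha
      have h2 := hHinv j hj _ h1
      have e : j * (j⁻¹ * a * j) * j⁻¹ = a := by group
      rw [e] at h2; exact h2
    · intro a ha
      rw [mem_cj]
      have h2 := hHinv j⁻¹ (H.inv_mem hj) a ha
      simpa using h2
  have hUeq : U = Zs H T ⊔ cj x (Zs H T) := by
    have h1 : cj j U = Zs H T ⊔ cj x (Zs H T) := by
      rw [hU, cj_sup, hZF.cjZ hj, ← cj_mul]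
      congr 2
      group
    rw [← hjU, h1]
  have hxU : cj x U = U := by
    rw [hUeq, cj_sup, ← cj_mul, hZF.cjZ hA.x2H, sup_comm]
  have hxinv : ∀ n ∈ U, x * n * x⁻¹ ∈ U := by
    intro n hn
    have := conj_mem_cj (g := x) hn
    rw [hxU] at this; exact this
  have hUT : U ≤ T := by
    rw [hUeq]
    apply sup_le
    · exact hZF.le_Q.trans hA.hQT
    · exact (cj_mono (hZF.le_Q.trans hA.hQT) x).trans (le_of_eq hA.cjxT)
  have hbot := hA.hcore U hUT hHinv hxinv
  apply hZF.ne_bot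
  rw [eq_bot_iff, ← hbot]
  exact hZU

end Cfsg.Agent.Lib.Helper76.Sym
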